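import Groth.Agent.AlgSpB.BigField.Stage
import Groth.Agent.LimLib.FGSub
import Groth.Agent.AlgSp.LimMono
import Groth.Agent.AlgSp.LimLP
import Groth.Agent.AlgSp.LimAffine
import Groth.Agent.AlgSp.QCMor
import Groth.Agent.AlgSp.DescentSepLqf
import Mathlib.RingTheory.Jacobson.Ring
import Mathlib.RingTheory.Spectrum.Prime.Jacobson

/-!
# A scheme locus descends from a field extension of an algebraically closed field
-/

universe u

open CategoryTheory CategoryTheory.Limits AlgebraicGeometry Opposite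

set_option backward.isDefEq.respectTransparency false
set_option backward.isDefEq.respectTransparency.types false
set_option autoImplicit false

attribute [local instance] CategoryTheory.isConnected_of_hasTerminal

namespace Groth.Agent.AlgSpB.BigField

open _root_.AlgSp Groth.Agent.AlgSp Groth.Agent.AlgSp.LimSep Groth.Agent.AlgSp.LimAffineMor

variable {S : Scheme.{u}}

section

variable {I : Type u} [SmallCategory I] [IsCofiltered I] {Y P : Sp S} {D : I ⥤ Sp S}
  (t : D ⟶ (Functor.const I).obj Y) (z : P ⟶ Y)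

/-- The base change of the limit is the limit of the base changes, compatibly with the projections. -/
theorem exists_limit' {c : Cone D} (hc : IsLimit c) {g : c.pt ⟶ Y} (hg : ∀ i, c.π.app i ≫ tY t i = g)
    {Q : Sp S} {q : Q ⟶ c.pt} {p : Q ⟶ P} (sq : IsPullback q p g z) :
    ∃ (π : ∀ i, Q ⟶ pullback (tY t i) z) (C : Cone (bcSys t z)) (_ : IsLimit C) (e : Q ≅ C.pt),
      (∀ i, e.hom ≫ C.π.app i = π i) ∧ ∀ i, π i ≫ pullback.snd (tY t i) z = p := by
  let π : ∀ i, Q ⟶ pullback (tY t i) z := fun i =>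
    pullback.lift (q ≫ c.π.app i) p (by rw [Category.assoc, hg, sq.w])
  let C : Cone (bcSys t z) :=
    { pt := Q
      π :=
        { app := π
          naturality := fun i j a => by
            refine (Category.id_comp _).trans ?_
            change _ = _ ≫ bcMap t z a
            apply pullback.hom_ext <;> simp [π] } }
  let p1 : bcSys t z ⟶ D :=
    { app := fun i => pullback.fst (tY t i) z
      naturality := fun i j a => bcMap_fst t z a }
  obtain ⟨i₀⟩ := IsCofiltered.nonempty (C := I)
  have hw : ∀ s : Cone (bcSys t z),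
      hc.lift ((Cone.postcompose p1).obj s) ≫ g = (s.π.app i₀ ≫ pullback.snd (tY t i₀) z) ≫ z := fun s => by
    rw [← hg i₀, hc.fac_assoc]
    simp only [Cone.postcompose_obj_π, NatTrans.comp_app, Category.assoc, p1]
    exact congrArg (fun k => s.π.app i₀ ≫ k) pullback.condition
  have hconst : ∀ (s : Cone (bcSys t z)) (j : I),
      s.π.app j ≫ pullback.snd (tY t j) z = s.π.app i₀ ≫ pullback.snd (tY t i₀) z := fun s j => by
    obtain ⟨k, a, b, -⟩ := IsCofilteredOrEmpty.cone_objs j i₀
    rw [← s.w a, ← s.w b]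
    change (s.π.app k ≫ bcMap t z a) ≫ _ = (s.π.app k ≫ bcMap t z b) ≫ _
    simp
  refine ⟨π, C, IsLimit.mk (fun s => sq.lift _ _ (hw s)) (fun s j => ?_) (fun s m hm => ?_), Iso.refl _,
    fun i => Category.id_comp _, fun i => pullback.lift_snd _ _ _⟩
  · apply pullback.hom_ext
    · simp only [C, π, Category.assoc, pullback.lift_fst, IsPullback.lift_fst_assoc]
      exact hc.fac _ j
    · simp only [C, π, Category.assoc, pullback.lift_snd, IsPullback.lift_snd]
      exact (hconst s j).symm
  · apply sq.hom_ext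
    · rw [IsPullback.lift_fst]
      refine hc.hom_ext fun j => ?_
      rw [hc.fac, Category.assoc]
      simp only [Cone.postcompose_obj_π, NatTrans.comp_app, p1]
      rw [← hm j]
      simp [C, π]
    · rw [IsPullback.lift_snd, ← hm i₀]
      simp [C, π]
end

/-- A nonempty open of the spectrum of a finitely generated algebra over an algebraically closed field contains a
rational point. -/
theorem exists_rational_point {L A : Type u} [Field L] [IsAlgClosed L] [CommRing A] [Algebra L A] [Algebra.FiniteType L A]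
    {O : Set (PrimeSpectrum A)} (hO : IsOpen O) (hne : O.Nonempty) :
    ∃ (s : A →ₐ[L] L) (a : PrimeSpectrum A), a ∈ O ∧ ∀ y : PrimeSpectrum L, PrimeSpectrum.comap s.toRingHom y = a := by
  have := isJacobsonRing_of_finiteType (A := L) (B := A)
  obtain ⟨a, haO, ha⟩ := nonempty_inter_closedPoints hne hO.isLocallyClosed
  have hm : a.asIdeal.IsMaximal := (PrimeSpectrum.isClosed_singleton_iff_isMaximal a).1 ha
  let := Ideal.Quotient.field a.asIdeal
  have : Module.Finite L (A ⧸ a.asIdeal) := finite_of_finite_type_of_isJacobsonRing L (A ⧸ a.asIdeal)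
  have hb := IsAlgClosed.algebraMap_bijective_of_isIntegral (k := L) (K := A ⧸ a.asIdeal)
  let e : (A ⧸ a.asIdeal) ≃ₐ[L] L := (AlgEquiv.ofBijective (Algebra.ofId L (A ⧸ a.asIdeal)) hb).symm
  refine ⟨e.toAlgHom.comp (Ideal.Quotient.mkₐ L a.asIdeal), a, haO, fun y => PrimeSpectrum.ext ?_⟩
  have hy : y.asIdeal = ⊥ := (Ideal.eq_bot_or_top y.asIdeal).resolve_right y.isPrime.ne_top
  rw [PrimeSpectrum.comap_asIdeal, hy]
  ext b
  simp [Ideal.Quotient.eq_zero_iff_mem]

variable {L K : Type u} [Field L] [IsAlgClosed L] [Field K] [Algebra L K]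

/-- A point below a point of the scheme locus over a field extension is in the scheme locus. -/
theorem exists_scheme_open_of_field [QuasiSeparatedSpace S] (σ : Spec (CommRingCat.of L) ⟶ S)
    {Y₀ : Sp S} (hY : IsAlgSpace Y₀) (hYqc : IsQuasiCompactSp Y₀) (hYqs : IsQuasiSeparatedSp Y₀)
    (π₀ : Y₀ ⟶ (yon S).obj (Over.mk σ)) {Ko : Over S} (φ : Ko ⟶ Over.mk σ) (eK : Spec (CommRingCat.of K) ≅ Ko.left)
    (heK : eK.hom ≫ φ.left = Spec.map (CommRingCat.ofHom (algebraMap L K)))
    {Q : Sp S} (qK : Q ⟶ (yon S).obj Ko) (qY : Q ⟶ Y₀) (sq : IsPullback qK qY ((yon S).map φ) π₀)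
    {W : Over S} [IsAffine W.left] (jW : (yon S).obj W ⟶ Q) (hjW : RepWith @IsOpenImmersion jW)
    (w : Points ((yon S).obj W)) :
    ∃ (V : Over S) (jV : (yon S).obj V ⟶ Y₀), RepWith @IsOpenImmersion jV ∧
      Points.map (jW ≫ qY) w ∈ Set.range (Points.map jV) := by
  classical
  let Lo : Over S := Over.mk σ
  let st : ∀ s : (Finset K)ᵒᵖ, (Groth.Agent.LimLib.fgDiagram L K).obj s ⟶ Spec (CommRingCat.of L) := fun s =>
    Spec.map (CommRingCat.ofHom (algebraMap L (Algebra.adjoin L (s.unop : Set K))))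
  have hst : ∀ {s s' : (Finset K)ᵒᵖ} (f : s ⟶ s'), (Groth.Agent.LimLib.fgDiagram L K).map f ≫ st s' = st s :=
    fun {s s'} f => by
      refine (Spec.map_comp _ _).symm.trans (congrArg Spec.map ?_)
      ext r
      rfl
  let DA : (Finset K)ᵒᵖ ⥤ Over S :=
    { obj := fun s => Over.mk (st s ≫ σ)
      map := fun {s s'} f => Over.homMk ((Groth.Agent.LimLib.fgDiagram L K).map f) (by
        change _ ≫ st s' ≫ σ = st s ≫ σ
        rw [← Category.assoc, hst f])
      map_id := fun s => Over.OverMorphism.ext ((Groth.Agent.LimLib.fgDiagram L K).map_id s)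
      map_comp := fun f g => Over.OverMorphism.ext ((Groth.Agent.LimLib.fgDiagram L K).map_comp f g) }
  let χ : ∀ s, DA.obj s ⟶ Lo := fun s => Over.homMk (st s) rfl
  have hcK : ∀ s, ((Groth.Agent.LimLib.fgCone L K).π.app s) ≫ st s = Spec.map (CommRingCat.ofHom (algebraMap L K)) :=
    fun s => by
      refine (Spec.map_comp _ _).symm.trans (congrArg Spec.map ?_)
      ext r
      rfl
  let cA : Cone DA :=
    { pt := Ko
      π :=
        { app := fun s => Over.homMk (eK.inv ≫ (Groth.Agent.LimLib.fgCone L K).π.app s) (by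
            change (eK.inv ≫ _) ≫ st s ≫ σ = Ko.hom
            rw [Category.assoc, reassoc_of% hcK s, ← heK, Category.assoc, eK.inv_hom_id_assoc]
            exact Over.w φ)
          naturality := fun s s' f => Over.OverMorphism.ext (by
            change 𝟙 _ ≫ eK.inv ≫ _ = (eK.inv ≫ _) ≫ (Groth.Agent.LimLib.fgDiagram L K).map f
            rw [Category.id_comp, Category.assoc, Cone.w]) } }
  have hcA : IsLimit cA := isLimitOfReflects (Over.forget S)
    (IsLimit.ofIsoLimit (Groth.Agent.LimLib.isLimitFgCone L K)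
      (Cone.ext eK (fun s => by exact (eK.hom_inv_id_assoc _).symm)))
  let D := DA ⋙ yon S
  let c := (yon S).mapCone cA
  have hc : IsLimit c := isLimitOfPreserves (yon S) hcA
  let t : D ⟶ (Functor.const (Finset K)ᵒᵖ).obj ((yon S).obj Lo) :=
    { app := fun s => (yon S).map (χ s)
      naturality := fun s s' f => by
        refine Eq.trans ?_ (Category.comp_id _).symm
        exact ((yon S).map_comp _ _).symm.trans (congrArg (yon S).map (Over.OverMorphism.ext (hst f))) }
  have hg : ∀ s, c.π.app s ≫ tY t s = (yon S).map φ := fun s => by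
    refine ((yon S).map_comp _ _).symm.trans (congrArg (yon S).map (Over.OverMorphism.ext ?_))
    change (eK.inv ≫ _) ≫ st s = φ.left
    rw [Category.assoc, hcK s, ← heK, eK.inv_hom_id_assoc]
  obtain ⟨πQ, C, hC, eQ, heQ, hπ₂⟩ := exists_limit' t π₀ hc hg sq
  have hDaff : ∀ s, IsAffine (DA.obj s).left := fun s => inferInstanceAs (IsAffine (Spec _))
  have hDa : ∀ (s s' : (Finset K)ᵒᵖ) (f : s ⟶ s'), IsAffineMor (D.map f) :=
    Groth.Agent.AlgSp.LimLP.isAffineMor_yon_map hDaff
  have hB : ∀ s, IsAlgSpace ((bcSys t π₀).obj s) := fun s =>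
    Groth.Agent.AlgSp.isAlgSpace_pullback (IsAlgSpace.yon_obj Lo) (IsAlgSpace.yon_obj (DA.obj s)) hY _ _
  have hBa := isAffineMor_bcSys t π₀ hDa
  have hBq : ∀ s, IsQuasiCompactSp ((bcSys t π₀).obj s) ∧ IsQuasiSeparatedSp ((bcSys t π₀).obj s) := fun s => by
    have : IsAffineHom (χ s).left := inferInstanceAs (IsAffineHom (Spec.map _))
    have hsnd : RepWith @IsAffineHom (pullback.snd (tY t s) π₀) :=
      MorphismProperty.of_isPullback (IsPullback.of_hasPullback (tY t s) π₀)
        ((repWith_yon_map_iff _ (χ s)).2 ‹_›)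
    exact ⟨Groth.Agent.AlgSp.isQuasiCompactMor_of_repWith hY
      (Groth.Agent.AlgSp.repWith_mono (fun g hg => (have : IsAffineHom g := hg; inferInstance : QuasiCompact g)) hsnd)
      hY hYqc (𝟙 _) (𝟙 _) (pullback.snd (tY t s) π₀) (IsPullback.of_horiz_isIso ⟨(Category.id_comp _).trans (Category.comp_id _).symm⟩),
    Groth.Agent.AlgSp.LimAffine.isQuasiSeparatedSp_of_mor _ (Groth.Agent.AlgSp.repWith_mono
      (fun g hg => (have : IsClosedImmersion g := hg; inferInstance : QuasiCompact g))
      (Groth.Agent.AlgSp.LimMono.diagonal_of_isAffineMor (hB s) ((Groth.Agent.AlgSp.isAffineMor_iff _).2 hsnd))) hYqs⟩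
  obtain ⟨i, T, j, hT, hj, hjr⟩ := exists_affine_open_stage hB hBa (fun s => (hBq s).1) (fun s => (hBq s).2) hC
    (jW ≫ eQ.hom) ((MorphismProperty.cancel_right_of_respectsIso (RepWith @IsOpenImmersion) jW eQ.hom).2 hjW)
  let b := Points.map ((jW ≫ eQ.hom) ≫ C.π.app i) w
  let x := Points.map (jW ≫ qY) w
  have hbx : Points.map (pullback.snd (tY t i) π₀) b = x := by
    refine (Points.map_comp _ _ _).symm.trans (congrArg (fun f => Points.map f w) ?_)
    rw [Category.assoc, Category.assoc]
    exact congrArg (jW ≫ ·) ((Category.assoc _ _ _).symm.trans ((congrArg (· ≫ _) (heQ i)).trans (hπ₂ i)))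
  -- a point over `x` with values in a field
  obtain ⟨p, hp⟩ := Groth.Agent.AlgSpB.exists_eq_ofPt_toHom x
  let ξ := p.toHom
  obtain ⟨ψ, hψ⟩ := (yon S).map_surjective (ξ ≫ π₀)
  obtain ⟨P, a₁, a₂, sP⟩ := Groth.Agent.AlgSpB.exists_pullback_yon (representable_yon_map (χ i)) ((yon S).map ψ)
  let h : (yon S).obj P ⟶ (bcSys t π₀).obj i :=
    pullback.lift ((yon S).map a₁) ((yon S).map a₂ ≫ ξ) (by rw [Category.assoc, ← hψ]; exact sP.w)
  have sh : IsPullback h ((yon S).map a₂) (pullback.snd (tY t i) π₀) ξ :=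
    IsPullback.of_right (h₁₂ := pullback.fst (tY t i) π₀) (h₂₂ := π₀) (v₁₃ := tY t i)
      (by rw [pullback.lift_fst, ← hψ]; exact sP) (pullback.lift_snd _ _ _) (IsPullback.of_hasPullback _ _)
  have : Nonempty p.pt.left := inferInstanceAs (Nonempty (Spec (CommRingCat.of p.K)))
  obtain ⟨pt₀⟩ := ‹Nonempty p.pt.left›
  obtain ⟨q₀, hq₀, -⟩ := Groth.Agent.AlgSpB.exists_of_isPullback sh b (Points.ofScheme p.pt pt₀)
    (by rw [hbx, ← Points.ofPt_eq_map_ofScheme, hp])
  rw [← Points.ofScheme_toScheme P q₀, ← Points.ofPt_eq_map_ofScheme] at hq₀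
  let O : Set P.left := Points.ofPt h ⁻¹' Set.range (Points.map j)
  have hO : IsOpen O := (Groth.Agent.AlgSpB.isOpen_range_of_isOpenImmersion hj).preimage (Points.continuous_ofPt h)
  have sPl : IsPullback a₁.left a₂.left (χ i).left ψ.left :=
    (IsPullback.of_map (yon S) ((yon S).map_injective (by rw [Functor.map_comp, Functor.map_comp]; exact sP.w)) sP).map
      (Over.forget S)
  have : UniversallyOpen ψ.left := by
    have : IsIntegral Lo.left := inferInstanceAs (IsIntegral (Spec (CommRingCat.of L)))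
    have : Subsingleton Lo.left := inferInstanceAs (Subsingleton (PrimeSpectrum L))
    infer_instance
  have : UniversallyOpen a₁.left := MorphismProperty.of_isPullback sPl.flip ‹_›
  have : Algebra.FiniteType L (Algebra.adjoin L (i.unop : Set K)) :=
    ⟨(Subalgebra.fg_top _).2 ⟨i.unop, rfl⟩⟩
  obtain ⟨s, a, haO, hsa⟩ := exists_rational_point (L := L) (A := Algebra.adjoin L (i.unop : Set K))
    (O := a₁.left '' O) (a₁.left.isOpenMap _ hO) ⟨_, Points.toScheme P q₀, by
      refine Set.mem_preimage.2 ?_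
      rw [hq₀]
      exact hjr w, rfl⟩
  obtain ⟨q, hqO, hqa⟩ := haO
  let so : Lo ⟶ DA.obj i := Over.homMk (Spec.map (CommRingCat.ofHom s.toRingHom)) (by
    change Spec.map _ ≫ st i ≫ σ = σ
    rw [← Category.assoc, ← Spec.map_comp, show CommRingCat.ofHom (algebraMap L _) ≫ CommRingCat.ofHom s.toRingHom =
      𝟙 _ from CommRingCat.hom_ext (RingHom.ext s.commutes), Spec.map_id, Category.id_comp])
  have hso : so ≫ χ i = 𝟙 Lo := Over.OverMorphism.ext (by
    change Spec.map _ ≫ st i = 𝟙 _
    rw [← Spec.map_comp, show CommRingCat.ofHom (algebraMap L _) ≫ CommRingCat.ofHom s.toRingHom =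
      𝟙 _ from CommRingCat.hom_ext (RingHom.ext s.commutes), Spec.map_id])
  let sY : Y₀ ⟶ (bcSys t π₀).obj i := pullback.lift (π₀ ≫ (yon S).map so) (𝟙 _) (by
    change _ ≫ (yon S).map (χ i) = _
    rw [Category.assoc, ← Functor.map_comp, hso, CategoryTheory.Functor.map_id, Category.comp_id, Category.id_comp])
  obtain ⟨sp, hsp⟩ : ∃ sp : p.pt ⟶ P, (yon S).map sp = sP.lift ((yon S).map (ψ ≫ so)) (𝟙 _) (by
      rw [← Functor.map_comp, Category.assoc, hso, Category.comp_id, Category.id_comp]) := (yon S).map_surjective _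
  have hsp1 : sp ≫ a₁ = ψ ≫ so := (yon S).map_injective (by rw [Functor.map_comp, hsp, sP.lift_fst])
  have hsp2 : sp ≫ a₂ = 𝟙 _ := (yon S).map_injective (by
    rw [Functor.map_comp, hsp, sP.lift_snd, CategoryTheory.Functor.map_id])
  have ss : IsPullback ψ.left sp.left so.left a₁.left := by
    refine IsPullback.of_right (h₁₂ := a₂.left) (h₂₂ := (χ i).left) (v₁₃ := ψ.left) ?_ ?_ sPl.flip |>.flip
    · rw [← Over.comp_left, hsp2, ← Over.comp_left, hso]
      exact IsPullback.of_horiz_isIso ⟨(Category.id_comp _).trans (Category.comp_id _).symm⟩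
    · exact congrArg CommaMorphism.left hsp1
  obtain ⟨pt₁, hpt₁⟩ : q ∈ Set.range sp.left := by
    obtain ⟨y⟩ : Nonempty Lo.left := inferInstanceAs (Nonempty (PrimeSpectrum L))
    have hy : so.left y = a₁.left q := (hsa y).trans hqa.symm
    obtain ⟨z, -, hz⟩ := Scheme.Pullback.exists_preimage_pullback (f := so.left) (g := a₁.left) y q hy
    exact ⟨ss.isoPullback.inv z, by rw [← Scheme.Hom.comp_apply, ss.isoPullback_inv_snd]; exact hz⟩
  have hxs : Points.map sY x ∈ Set.range (Points.map j) := by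
    have e : (yon S).map sp ≫ h = ξ ≫ sY := by
      apply pullback.hom_ext
      · simp only [h, sY, Category.assoc, pullback.lift_fst]
        rw [← Functor.map_comp, hsp1, Functor.map_comp, ← Category.assoc ξ, ← hψ]
      · simp only [h, sY, Category.assoc, pullback.lift_snd]
        rw [← Functor.map_comp_assoc, hsp2, CategoryTheory.Functor.map_id, Category.id_comp, Category.comp_id]
    rw [← hp pt₁, Points.map_ofPt, ← e, Groth.Agent.AlgSpB.ofPt_map_comp, hpt₁]
    exact hqO
  obtain ⟨y, hy⟩ := hxs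
  have hsY : Representable sY := by
    refine MorphismProperty.of_isPullback (P := Representable (S := S)) (g := (yon S).map so)
      (f := pullback.fst (tY t i) π₀) (f' := π₀) ?_ (representable_yon_map so)
    refine (IsPullback.of_right (h₁₂ := pullback.snd (tY t i) π₀) (h₂₂ := tY t i) (v₁₃ := π₀) ?_
      (pullback.lift_fst _ _ _) (IsPullback.of_hasPullback _ _).flip).flip
    rw [pullback.lift_snd, show tY t i = (yon S).map (χ i) from rfl, ← Functor.map_comp, hso,
      CategoryTheory.Functor.map_id]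
    exact IsPullback.of_horiz_isIso ⟨(Category.id_comp _).trans (Category.comp_id _).symm⟩
  obtain ⟨V, snd, fst, sqV⟩ := hsY j
  refine ⟨V, fst, MorphismProperty.of_isPullback sqV.flip hj, ?_⟩
  obtain ⟨v, hv, -⟩ := Groth.Agent.AlgSpB.exists_of_isPullback sqV x y hy.symm
  exact ⟨v, hv⟩

end Groth.Agent.AlgSpB.BigField
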