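import Groth.Agent.AlgSpB.BigField.Descent
import Groth.Agent.AlgSpB.Open
import Groth.Agent.AlgSpD.RefinedVC

/-!
# The scheme locus of a space over an algebraically closed field
-/

universe u

open CategoryTheory CategoryTheory.Limits AlgebraicGeometry Opposite

set_option backward.isDefEq.respectTransparency false
set_option backward.isDefEq.respectTransparency.types false
set_option autoImplicit false

namespace Groth.Agent.AlgSpB.BigField

open _root_.AlgSp Groth.Agent.AlgSp

variable {S : Scheme.{u}} {L K : Type u} [Field L] [IsAlgClosed L] [Field K] [Algebra L K]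

/-- A point below a point of the scheme locus over a field extension is in the scheme locus. -/
theorem mem_schemeLocus [QuasiSeparatedSpace S] (σ : Spec (CommRingCat.of L) ⟶ S) {X : Sp S} (hX : IsAlgSpace X)
    (hXqs : IsQuasiSeparatedSp X) (π : X ⟶ (yon S).obj (Over.mk σ)) {Ko : Over S} (φ : Ko ⟶ Over.mk σ)
    (eK : Spec (CommRingCat.of K) ≅ Ko.left)
    (heK : eK.hom ≫ φ.left = Spec.map (CommRingCat.ofHom (algebraMap L K)))
    {Q : Sp S} (qK : Q ⟶ (yon S).obj Ko) (qX : Q ⟶ X) (sq : IsPullback qK qX ((yon S).map φ) π)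
    {V : Over S} (jV : (yon S).obj V ⟶ Q) (hjV : RepWith @IsOpenImmersion jV) (v : ↥V.left) :
    ∃ (V' : Over S) (j : (yon S).obj V' ⟶ X), RepWith @IsOpenImmersion j ∧
      Points.ofPt (jV ≫ qX) v ∈ Set.range (Points.map j) := by
  obtain ⟨R, str, a, u₀, ha, hu₀⟩ := Groth.Agent.AlgSpD.exists_affine_chart_at hX (Points.ofPt (jV ≫ qX) v)
  have hE : IsOpen (Set.range (Points.ofPt a)) := (Groth.Agent.AlgSpB.isOpenMap_ofPt ha).isOpen_range
  obtain ⟨Y₀, j, hj, hjr⟩ := Groth.Agent.AlgSpB.exists_openSubspace ⟨X, hX⟩ hE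
  have : Mono j.hom := Groth.Agent.AlgSpB.mono_of_isOpenImmersion hj
  obtain ⟨a', -, ha', ha's⟩ := Groth.Agent.AlgSpB.exists_chart_into_subspace ha hj hjr
  have : CompactSpace (Over.mk str).left := inferInstanceAs (CompactSpace (Spec R))
  have hqc : IsQuasiCompactSp Y₀.obj := ⟨_, a', ha', ha's, this⟩
  have hqs : IsQuasiSeparatedSp Y₀.obj := by
    refine LimAffine.isQuasiSeparatedSp_of_mor j.hom ?_ hXqs
    have : IsIso (pullback.diagonal j.hom) := (pullback.isIso_diagonal_iff j.hom).2 inferInstance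
    refine ⟨Functor.relativelyRepresentable.of_isIso (F := yon S) _, fun _ _ g fst snd sq => ?_⟩
    have : IsIso ((yon S).map snd) := sq.isIso_snd_of_isIso
    have : IsIso snd := isIso_of_reflects_iso _ (yon S)
    have : IsIso snd.left := inferInstanceAs (IsIso ((Over.forget S).map snd))
    exact (inferInstance : QuasiCompact snd.left)
  have sq₀ := ((IsPullback.of_hasPullback qX j.hom).flip.paste_vert sq.flip).flip
  obtain ⟨W, hW, hvW, hWE⟩ := exists_isAffineOpen_mem_and_subset (x := v)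
    (U := ⟨Points.ofPt (jV ≫ qX) ⁻¹' Set.range (Points.ofPt a), hE.preimage (Points.continuous_ofPt _)⟩)
    ⟨u₀, hu₀⟩
  let i : Over.mk (hW.fromSpec ≫ V.hom) ⟶ V := Over.homMk hW.fromSpec rfl
  obtain ⟨w, hw⟩ : v ∈ Set.range hW.fromSpec := by rw [hW.range_fromSpec]; exact hvW
  obtain ⟨l, hl⟩ := Groth.Agent.AlgSpB.exists_lift_yon_of_isOpenImmersion hj ((yon S).map i ≫ jV ≫ qX) (by
    rw [hjr]
    rintro _ ⟨t, rfl⟩
    rw [Groth.Agent.AlgSpB.ofPt_map_comp]
    exact hWE (show hW.fromSpec t ∈ (W : Set V.left) by rw [← hW.range_fromSpec]; exact ⟨t, rfl⟩))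
  let jW : (yon S).obj (Over.mk (hW.fromSpec ≫ V.hom)) ⟶ pullback qX j.hom :=
    pullback.lift ((yon S).map i ≫ jV) l (by rw [Category.assoc]; exact hl.symm)
  have hjW : RepWith @IsOpenImmersion jW := by
    have : IsOpenImmersion i.left := inferInstanceAs (IsOpenImmersion hW.fromSpec)
    refine MorphismProperty.of_isPullback (P := RepWith @IsOpenImmersion) (f := pullback.fst qX j.hom)
      (g := (yon S).map i ≫ jV) (f' := 𝟙 _) ?_
      ((RepWith @IsOpenImmersion : MorphismProperty (Sp S)).comp_mem _ _ ((repWith_yon_map_iff _ i).2 this) hjV)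
    exact IsPullback.of_isLimit' ⟨by rw [Category.id_comp, pullback.lift_fst]⟩ (PullbackCone.IsLimit.mk _
      (fun c => c.fst) (fun c => Category.comp_id _)
      (fun c => (cancel_mono (pullback.fst qX j.hom)).1 (by
        rw [Category.assoc, pullback.lift_fst]; exact c.condition))
      (fun c m hm _ => by simpa using hm))
  have : IsAffine (Over.mk (hW.fromSpec ≫ V.hom)).left := inferInstanceAs (IsAffine (Spec _))
  obtain ⟨V', j', hj', hjr'⟩ := exists_scheme_open_of_field σ Y₀.property hqc hqs (j.hom ≫ π) φ eK heK _ _ sq₀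
    jW hjW (Points.ofScheme _ w)
  refine ⟨V', j' ≫ j.hom, (RepWith @IsOpenImmersion : MorphismProperty (Sp S)).comp_mem _ _ hj' hj, ?_⟩
  obtain ⟨y, hy⟩ := hjr'
  refine ⟨y, ?_⟩
  rw [Points.map_comp, hy, ← Points.map_comp, ← Points.ofPt_eq_map_ofScheme, Category.assoc,
    pullback.lift_snd_assoc, hl, Groth.Agent.AlgSpB.ofPt_map_comp]
  exact congrArg _ hw

end Groth.Agent.AlgSpB.BigField
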