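import Groth.Agent.AlgSp.LimScheme

/-!
# Affine open subspaces of a limit come from affine open subspaces of a stage
-/

universe u

open CategoryTheory CategoryTheory.Limits AlgebraicGeometry Opposite

set_option backward.isDefEq.respectTransparency.types false
set_option autoImplicit false

attribute [local instance] CategoryTheory.isConnected_of_hasTerminal

namespace Groth.Agent.AlgSpB.BigField

open _root_.AlgSp Groth.Agent.AlgSp Groth.Agent.AlgSp.LimSep

variable {S : Scheme.{u}} {I : Type u} [SmallCategory I] [IsCofiltered I] {D : I ⥤ Sp S}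

/-- An affine open subspace of the limit maps into an affine open subspace of a stage. -/
theorem exists_affine_open_stage [QuasiSeparatedSpace S] (hD : ∀ i, IsAlgSpace (D.obj i))
    (hDa : ∀ (i j : I) (φ : i ⟶ j), IsAffineMor (D.map φ)) (hqc : ∀ i, IsQuasiCompactSp (D.obj i))
    (hqs : ∀ i, IsQuasiSeparatedSp (D.obj i)) {c : Cone D} (hc : IsLimit c) {U : Over S} [IsAffine U.left]
    (jU : (yon S).obj U ⟶ c.pt) (hjU : RepWith @IsOpenImmersion jU) :
    ∃ (k : I) (T : Over S) (j : (yon S).obj T ⟶ D.obj k), IsAffine T.left ∧ RepWith @IsOpenImmersion j ∧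
      ∀ y, Points.map (jU ≫ c.π.app k) y ∈ Set.range (Points.map j) := by
  obtain ⟨i, Ui, ji, qU, hji, hUqc, sqU⟩ := LimOpen.exists_open_stage hD hDa hqc hqs c hc jU hjU
    (Groth.Agent.AlgSp.isQuasiCompactSp_yon U)
  have hUa : IsAlgSpace Ui := by
    have : Mono ji := Groth.Agent.AlgSpB.mono_of_isOpenImmersion hji
    exact Groth.Agent.AlgSpB.isAlgSpace_of_mono_representable (hD i) ji hji.1
  have hUqs : IsQuasiSeparatedSp Ui := by
    refine LimAffine.isQuasiSeparatedSp_of_mor ji ?_ (hqs i)
    have : Mono ji := Groth.Agent.AlgSpB.mono_of_isOpenImmersion hji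
    have : IsIso (pullback.diagonal ji) := (pullback.isIso_diagonal_iff ji).2 inferInstance
    refine ⟨Functor.relativelyRepresentable.of_isIso (F := yon S) _, fun _ _ g fst snd sq => ?_⟩
    have : IsIso ((yon S).map snd) := sq.isIso_snd_of_isIso
    have : IsIso snd := isIso_of_reflects_iso _ (yon S)
    have : IsIso snd.left := inferInstanceAs (IsIso ((Over.forget S).map snd))
    exact (inferInstance : QuasiCompact snd.left)
  let D' : Over i ⥤ Sp S := Over.forget i ⋙ D
  let t : D' ⟶ (Functor.const (Over i)).obj (D.obj i) :=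
    { app := fun j => D.map j.hom
      naturality := fun j k φ => by
        refine Eq.trans ?_ (Category.comp_id _).symm
        exact (D.map_comp _ _).symm.trans (congrArg D.map (Over.w φ)) }
  have hc' : IsLimit (c.whisker (Over.forget i)) := (Functor.Initial.isLimitWhiskerEquiv _ c).symm hc
  obtain ⟨k, T, hT, ⟨ε⟩⟩ := LimAffineMor.exists_affine_bc t ji (fun j => hD j.left) (fun _ _ φ => hDa _ _ φ.left)
    hc' (g := c.π.app i) (fun j => c.w j.hom) (hD i) (hqs i) (fun j => hqc j.left) (fun j => hqs j.left) hUa hUqc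
    hUqs U sqU
  refine ⟨k.left, T, ε.hom ≫ pullback.fst (tY t k) ji, hT, ?_, ?_⟩
  · exact (MorphismProperty.cancel_left_of_respectsIso (RepWith @IsOpenImmersion : MorphismProperty (Sp S)) ε.hom _).2
      (MorphismProperty.of_isPullback (IsPullback.of_hasPullback (tY t k) ji).flip hji)
  · rintro y
    let lift : (yon S).obj U ⟶ pullback (tY t k) ji :=
      pullback.lift (jU ≫ c.π.app k.left) qU (by
        rw [Category.assoc]
        exact (congrArg (fun f => jU ≫ f) (c.w k.hom)).trans sqU.w)
    refine ⟨Points.map (lift ≫ ε.inv) y, ?_⟩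
    rw [← Points.map_comp, Category.assoc, ε.inv_hom_id_assoc]
    exact congrArg (fun f => Points.map f y)
      (show lift ≫ pullback.fst (tY t k) ji = jU ≫ c.π.app k.left from pullback.lift_fst _ _ _)

end Groth.Agent.AlgSpB.BigField
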